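import Groth.Agent.VarDim.Basic
import Mathlib

/-! Integral morphisms do not increase the dimension of local rings. -/

open CategoryTheory AlgebraicGeometry

set_option backward.isDefEq.respectTransparency false
set_option backward.isDefEq.respectTransparency.types false

namespace Groth.Agent.NormGeomReg

universe u

theorem ringKrullDim_stalk_le {X Y : Scheme.{u}} (f : Y ⟶ X) [IsIntegralHom f] (y : Y) :
    ringKrullDim (Y.presheaf.stalk y) ≤ ringKrullDim (X.presheaf.stalk (f y)) := by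
  obtain ⟨_, ⟨U, hU, rfl⟩, hyU, -⟩ := X.isBasis_affineOpens.exists_subset_of_mem_open
    (Set.mem_univ (f y)) isOpen_univ
  have hW : IsAffineOpen (f ⁻¹ᵁ U) := hU.preimage f
  letI : Algebra Γ(X, U) Γ(Y, f ⁻¹ᵁ U) := (f.app U).hom.toAlgebra
  have hint : (f.app U).hom.IsIntegral := IsIntegralHom.isIntegral_app f U hU
  haveI : Algebra.IsIntegral Γ(X, U) Γ(Y, f ⁻¹ᵁ U) := ⟨hint⟩
  letI := Y.presheaf.algebra_section_stalk (⟨y, hyU⟩ : (f ⁻¹ᵁ U : Y.Opens))
  haveI := hW.isLocalization_stalk (⟨y, hyU⟩ : (f ⁻¹ᵁ U : Y.Opens))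
  letI := X.presheaf.algebra_section_stalk (⟨f y, hyU⟩ : U)
  haveI := hU.isLocalization_stalk (⟨f y, hyU⟩ : U)
  let q := hW.primeIdealOf ⟨y, hyU⟩
  let p := hU.primeIdealOf ⟨f y, hyU⟩
  have hpq : PrimeSpectrum.comap (algebraMap Γ(X, U) Γ(Y, f ⁻¹ᵁ U)) q = p := by
    apply hU.fromSpec.isOpenEmbedding.injective
    have h1 := congrArg (fun g => g.base q)
      (hU.SpecMap_appLE_fromSpec f hW (le_refl (f ⁻¹ᵁ U)))
    have h2 : hW.fromSpec.base q = y := hW.fromSpec_primeIdealOf ⟨y, hyU⟩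
    have h3 : hU.fromSpec.base p = f y := hU.fromSpec_primeIdealOf ⟨f y, hyU⟩
    simp only [Scheme.Hom.comp_base, TopCat.comp_app, h2] at h1
    show hU.fromSpec.base _ = hU.fromSpec.base p
    rw [h3, ← h1]
    simp only [Scheme.Hom.appLE_eq_app]
    rfl
  rw [IsLocalization.AtPrime.ringKrullDim_eq_height q.asIdeal (Y.presheaf.stalk y),
    IsLocalization.AtPrime.ringKrullDim_eq_height p.asIdeal (X.presheaf.stalk (f y))]
  refine WithBot.coe_le_coe.2 ?_
  rw [PrimeSpectrum.height_eq_orderHeight, PrimeSpectrum.height_eq_orderHeight, ← hpq]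
  exact Order.height_le_height_apply_of_strictMono _ VarDim.strictMono_comap_of_isIntegral q

end Groth.Agent.NormGeomReg
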