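import Groth.Agent.RegLoc6.Serre
import Groth.Agent.VarDim.Basic
import Mathlib

/-! Local domains with principal maximal ideal and geometrically reduced residue field stay regular
after finite purely inseparable extensions of the base field. -/

open TensorProduct IsLocalRing

namespace Groth.Agent.NormGeomReg

universe u

variable {k : Type u} [Field k] (K : Type u) [Field K] [Algebra k K] [IsPurelyInseparable k K]

theorem isField_tensor (κ : Type u) [Field κ] [Algebra k κ] (h : IsReduced (κ ⊗[k] K)) :
    IsField (κ ⊗[k] K) := by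
  haveI : Nontrivial (κ ⊗[k] K) :=
    (Algebra.TensorProduct.includeLeft_injective (S := κ) (algebraMap k K).injective :
      Function.Injective (Algebra.TensorProduct.includeLeft : κ →ₐ[κ] κ ⊗[k] K)).nontrivial
  have hb := (PrimeSpectrum.isHomeomorph_comap_of_isPurelyInseparable k K κ).bijective
  obtain ⟨M, hM⟩ := Ideal.exists_maximal (κ ⊗[k] K)
  have huniq : ∀ P : Ideal (κ ⊗[k] K), P.IsPrime → P = M := fun P hP => by
    have : (⟨P, hP⟩ : PrimeSpectrum (κ ⊗[k] K)) = ⟨M, hM.isPrime⟩ := hb.1 (Subsingleton.elim _ _)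
    exact congrArg PrimeSpectrum.asIdeal this
  have hbot : M = ⊥ := by
    refine le_bot_iff.1 fun a ha => ?_
    have : a ∈ nilradical (κ ⊗[k] K) := by
      rw [nilradical_eq_sInf]
      exact Ideal.mem_sInf.2 fun {P} hP => huniq P hP ▸ ha
    exact IsReduced.eq_zero a this
  exact Ring.isField_iff_maximal_bot.mpr (hbot ▸ hM)

theorem isRegularLocalRing_tensor [FiniteDimensional k K] (O : Type u) [CommRing O] [IsDomain O]
    [IsLocalRing O] [IsNoetherianRing O] [Algebra k O] (π : O) (hπ : maximalIdeal O = Ideal.span {π})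
    (hred : IsReduced (ResidueField O ⊗[k] K)) :
    IsRegularLocalRing (O ⊗[k] K) := by
  haveI : IsNoetherianRing (O ⊗[k] K) := IsNoetherianRing.of_finite O (O ⊗[k] K)
  have hinj : Function.Injective (algebraMap O (O ⊗[k] K)) :=
    Algebra.TensorProduct.includeLeft_injective (S := O) (algebraMap k K).injective
  haveI : FaithfulSMul O (O ⊗[k] K) := (faithfulSMul_iff_algebraMap_injective O _).2 hinj
  haveI : Algebra.IsIntegral O (O ⊗[k] K) := Algebra.IsIntegral.of_finite _ _
  haveI : Nontrivial (O ⊗[k] K) := hinj.nontrivial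
  let f : O →ₐ[k] ResidueField O := Ideal.Quotient.mkₐ k (maximalIdeal O)
  have hf : Function.Surjective f := Ideal.Quotient.mk_surjective
  let φ : O ⊗[k] K →ₐ[k] ResidueField O ⊗[k] K := Algebra.TensorProduct.map f (AlgHom.id k K)
  have hφ : Function.Surjective φ := fun t => by
    induction t using TensorProduct.induction_on with
    | zero => exact ⟨0, map_zero _⟩
    | tmul a b =>
      obtain ⟨a, rfl⟩ := hf a
      exact ⟨a ⊗ₜ b, Algebra.TensorProduct.map_tmul _ _ _ _⟩
    | add x y hx hy =>
      obtain ⟨x, rfl⟩ := hx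
      obtain ⟨y, rfl⟩ := hy
      exact ⟨x + y, map_add _ _ _⟩
  have hker : RingHom.ker φ.toRingHom = Ideal.span {algebraMap O (O ⊗[k] K) π} := by
    have h1 : RingHom.ker f = maximalIdeal O := Ideal.Quotient.mkₐ_ker k _
    refine (Algebra.TensorProduct.rTensor_ker (C := K) f hf).trans ?_
    rw [h1, hπ, Ideal.map_span, Set.image_singleton]
    rfl
  haveI hmax : (Ideal.span {algebraMap O (O ⊗[k] K) π}).IsMaximal := by
    rw [← hker]
    letI := (isField_tensor K (ResidueField O) hred).toField
    exact RingHom.ker_isMaximal_of_surjective _ hφ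
  haveI : IsLocalRing (O ⊗[k] K) := IsLocalRing.of_unique_max_ideal
    ⟨_, hmax, fun M hM => by
      haveI := hM
      have h2 := IsLocalRing.eq_maximalIdeal (Ideal.isMaximal_comap_of_isIntegral_of_isMaximal
        (R := O) M)
      refine (hmax.eq_of_le hM.ne_top ((Ideal.span_singleton_le_iff_mem _).2 ?_)).symm
      have : π ∈ maximalIdeal O := hπ ▸ Ideal.mem_span_singleton_self π
      rw [← h2] at this
      exact this⟩
  have hm : maximalIdeal (O ⊗[k] K) = Ideal.span {algebraMap O (O ⊗[k] K) π} :=
    (IsLocalRing.eq_maximalIdeal hmax).symm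
  refine IsRegularLocalRing.of_spanFinrank_maximalIdeal_le (R := O ⊗[k] K) ?_
  rcases eq_or_ne π 0 with rfl | hπ0
  · rw [hm, map_zero, Ideal.span_singleton_eq_bot.2 rfl]
    simp [Submodule.spanFinrank_bot, ringKrullDim_nonneg_of_nontrivial]
  · have h1 : (1 : WithBot ℕ∞) ≤ ringKrullDim (O ⊗[k] K) := by
      rw [VarDim.ringKrullDim_eq_of_isIntegral (R := O)]
      by_contra hlt
      haveI : Ring.KrullDimLE 0 O := by
        rw [Ring.krullDimLE_iff]
        exact Order.le_of_lt_succ (lt_of_not_ge hlt)
      have hfld : IsField O := Ring.KrullDimLE.isField_of_isDomain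
      have h0 : π ∈ (⊥ : Ideal O) := by
        rw [← IsLocalRing.isField_iff_maximalIdeal_eq.1 hfld, hπ]
        exact Ideal.mem_span_singleton_self π
      exact hπ0 h0
    refine le_trans ?_ h1
    have h2 : (maximalIdeal (O ⊗[k] K)).spanFinrank ≤ 1 := by
      rw [hm]
      exact (Submodule.spanFinrank_span_le_ncard_of_finite (Set.finite_singleton _)).trans
        (le_of_eq (Set.ncard_singleton _))
    exact_mod_cast h2

theorem isReduced_tensor [FiniteDimensional k K] (O : Type u) [CommRing O] [IsDomain O]
    [IsLocalRing O] [IsNoetherianRing O] [Algebra k O] (π : O) (hπ : maximalIdeal O = Ideal.span {π})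
    (hred : IsReduced (ResidueField O ⊗[k] K)) :
    IsReduced (O ⊗[k] K) := by
  haveI := isRegularLocalRing_tensor K O π hπ hred
  haveI := RegLoc6.isDomain_of_isRegularLocalRing (O ⊗[k] K)
  infer_instance

end Groth.Agent.NormGeomReg
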