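import Groth.Agent.NormGeomReg.Algebra
import Groth.Agent.NormGeomReg.Dim
import Groth.Agent.SmoothReg.GeomRegularAt
import Groth.Agent.GeomField.Reduced
import Groth.Agent.NormCurve.Delta
import Groth.Agent.NormCurve.Normal
import Groth.Agent.NagataLib.Scheme
import Groth.Agent.S9346
import Mathlib

/-! Geometric regularity of the normalization at codimension one points with separable residue field. -/

open CategoryTheory CategoryTheory.Limits AlgebraicGeometry TensorProduct IsLocalRing

set_option backward.isDefEq.respectTransparency false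
set_option backward.isDefEq.respectTransparency.types false
set_option linter.style.haveILetI false

attribute [local instance] Curv2.stalkAlgebra

namespace Groth.Agent.NormGeomReg

universe u

variable {k : Type u} [Field k]

theorem principal_of_normal (O : Type u) [CommRing O] [IsDomain O] [IsLocalRing O] [IsNoetherianRing O]
    [IsIntegrallyClosed O] (h : ringKrullDim O ≤ 1) : ∃ π : O, maximalIdeal O = Ideal.span {π} := by
  haveI : Ring.KrullDimLE 1 O := by
    rw [Ring.krullDimLE_iff]
    exact_mod_cast h
  haveI : Ring.DimensionLEOne O :=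
    ⟨fun {p} hp hpp => Ring.krullDimLE_one_iff_of_isPrime_bot.1 inferInstance p hp hpp⟩
  haveI : IsDedekindDomain O := { }
  exact Submodule.IsPrincipal.principal _

theorem isReduced_residue_tensor {Y : Scheme.{u}} [Y.Over (Spec (CommRingCat.of k))] (y : Y)
    (h : GeometricallyReduced (Spec.map (CommRingCat.ofHom (Curv2.resMap k Y y))))
    (K : Type u) [Field K] [Algebra k K] :
    _root_.IsReduced (ResidueField (Y.presheaf.stalk y) ⊗[k] K) := by
  have h1 : GeometricallyReduced
      (Spec.map (CommRingCat.ofHom (algebraMap k (ResidueField (Y.presheaf.stalk y))))) := h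
  haveI : AlgebraicGeometry.IsReduced
      (pullback (Spec.map (CommRingCat.ofHom (algebraMap k (ResidueField (Y.presheaf.stalk y)))))
        (Spec.map (CommRingCat.ofHom (algebraMap k K)))) :=
    pullback_of_geometrically h1.geometrically_isReduced K _
  haveI : AlgebraicGeometry.IsReduced (Spec (CommRingCat.of (ResidueField (Y.presheaf.stalk y) ⊗[k] K))) :=
    isReduced_of_isOpenImmersion (pullbackSpecIso k (ResidueField (Y.presheaf.stalk y)) K).inv
  exact (affine_isReduced_iff _).1 ‹_›

theorem isGeomRegularAt {Y : Scheme.{u}} [Y.Over (Spec (CommRingCat.of k))] [IsLocallyNoetherian Y]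
    (y : Y) [IsDomain (Y.presheaf.stalk y)] (π : Y.presheaf.stalk y)
    (hπ : maximalIdeal (Y.presheaf.stalk y) = Ideal.span {π})
    (h : GeometricallyReduced (Spec.map (CommRingCat.ofHom (Curv2.resMap k Y y)))) :
    Curv2.IsGeomRegularAt k Y y := by
  refine SmoothReg.isGeomRegularAt_of_purelyInseparable y fun K _ _ _ _ y' hy' => ?_
  haveI := isRegularLocalRing_tensor K (Y.presheaf.stalk y) π hπ (isReduced_residue_tensor y h K)
  haveI := RegLoc6.isRegularRing_of_isRegularLocalRing (Y.presheaf.stalk y ⊗[k] K)
  exact SmoothReg.isRegularLocalRing_of_isRegularRing_tensor_stalk y K y' hy'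

theorem isGeometricallyReduced_stalk {Y : Scheme.{u}} [Y.Over (Spec (CommRingCat.of k))]
    [IsLocallyNoetherian Y] (y : Y) [IsDomain (Y.presheaf.stalk y)] (π : Y.presheaf.stalk y)
    (hπ : maximalIdeal (Y.presheaf.stalk y) = Ideal.span {π})
    (h : GeometricallyReduced (Spec.map (CommRingCat.ofHom (Curv2.resMap k Y y)))) :
    Algebra.IsGeometricallyReduced k (Y.presheaf.stalk y) :=
  GeomField.gr_of_purelyInseparable _ fun K _ _ _ _ =>
    isReduced_tensor K (Y.presheaf.stalk y) π hπ (isReduced_residue_tensor y h K)

theorem stalkMap_comp {X Y : Scheme.{u}} [X.Over (Spec (CommRingCat.of k))]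
    [Y.Over (Spec (CommRingCat.of k))] (f : Y ⟶ X)
    (hf : Y ↘ Spec (CommRingCat.of k) = f ≫ (X ↘ Spec (CommRingCat.of k))) (y : Y) (c : k) :
    (f.stalkMap y).hom (Curv2.stalkMap k X (f y) c) = Curv2.stalkMap k Y y c := by
  simp only [Curv2.stalkMap, Coh.toGlobal, RingHom.coe_comp, Function.comp_apply, hf,
    Scheme.Hom.comp_appTop, CommRingCat.hom_comp]
  exact Scheme.Hom.germ_stalkMap_apply f ⊤ y trivial _

theorem exists_point {X : Scheme.{u}} [IsIntegral X]
    [QuasiCompact (X.fromSpecStalk (genericPoint X))] [QuasiSeparated (X.fromSpecStalk (genericPoint X))]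
    (x : X) : ∃ x' : ↥(Curv2.normalization X), Curv2.normalizationι X x' = x := by
  haveI : IsIntegralHom (Curv2.normalizationι X) :=
    inferInstanceAs (IsIntegralHom (X.fromSpecStalk (genericPoint X)).fromNormalization)
  have hc : IsClosed (Set.range (Curv2.normalizationι X)) :=
    (Curv2.normalizationι X).isClosedMap.isClosed_range
  exact (genericPoint_specializes x).mem_closed hc (NormCurve.genericPoint_mem_range X)

theorem main (X : Scheme.{u}) [X.Over (Spec (CommRingCat.of k))] [IsIntegral X]
    [LocallyOfFiniteType (X ↘ (Spec (CommRingCat.of k)))]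
    [QuasiCompact (X.fromSpecStalk (genericPoint X))] [QuasiSeparated (X.fromSpecStalk (genericPoint X))]
    [(Curv2.normalization X).Over (Spec (CommRingCat.of k))]
    (hov : Curv2.normalization X ↘ Spec (CommRingCat.of k) =
      Curv2.normalizationι X ≫ (X ↘ Spec (CommRingCat.of k)))
    (x : ↥X) (hdim : ringKrullDim ↥(X.presheaf.stalk x) = 1)
    (hsep : ∀ x' : ↥(Curv2.normalization X), Curv2.normalizationι X x' = x →
        GeometricallyReduced (Spec.map (CommRingCat.ofHom (Curv2.resMap k (Curv2.normalization X) x')))) :
    Curv2.IsGeomReducedAt k X x ∧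
      ∀ x' : ↥(Curv2.normalization X), Curv2.normalizationι X x' = x →
        Curv2.IsGeomRegularAt k (Curv2.normalization X) x' := by
  haveI := NormCurve.isFinite_normalizationι X
    (fun U => NagataLib.isNagata_affineOpen (X ↘ Spec (CommRingCat.of k)) U)
  haveI : IsLocallyNoetherian (Curv2.normalization X) :=
    LocallyOfFiniteType.isLocallyNoetherian (Curv2.normalizationι X ≫ (X ↘ Spec (CommRingCat.of k)))
  haveI : IsIntegral (Curv2.normalization X) :=
    inferInstanceAs (IsIntegral (X.fromSpecStalk (genericPoint X)).normalization)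
  haveI : IsDominant (Curv2.normalizationι X) :=
    ⟨fun z => (genericPoint_specializes z).mem_closed isClosed_closure
      (subset_closure (NormCurve.genericPoint_mem_range X))⟩
  have key : ∀ x' : ↥(Curv2.normalization X), Curv2.normalizationι X x' = x →
      IsDomain ((Curv2.normalization X).presheaf.stalk x') ∧
      ∃ π, maximalIdeal ((Curv2.normalization X).presheaf.stalk x') = Ideal.span {π} := by
    intro x' hx'
    obtain ⟨hd, hic⟩ := NormCurve.isNormalScheme_normalization X x'
    haveI := hd
    haveI := hic
    refine ⟨hd, principal_of_normal _ ?_⟩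
    refine (ringKrullDim_stalk_le (Curv2.normalizationι X) x').trans ?_
    rw [hx', hdim]
  refine ⟨?_, fun x' hx' => ?_⟩
  · obtain ⟨x', hx'⟩ := exists_point x
    obtain ⟨_, π, hπ⟩ := key x' hx'
    haveI := isGeometricallyReduced_stalk x' π hπ (hsep x' hx')
    subst hx'
    rw [GeomField.isGeomReducedAt_iff]
    let ψ : X.presheaf.stalk (Curv2.normalizationι X x') →ₐ[k] (Curv2.normalization X).presheaf.stalk x' :=
      { toRingHom := ((Curv2.normalizationι X).stalkMap x').hom
        commutes' := fun c => stalkMap_comp (Curv2.normalizationι X) hov x' c }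
    exact Algebra.IsGeometricallyReduced.of_injective ψ (S9346.stalkMap_injective _ x')
  · obtain ⟨_, π, hπ⟩ := key x' hx'
    exact isGeomRegularAt x' π hπ (hsep x' hx')

end Groth.Agent.NormGeomReg
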